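import Cfsg.Agent.H734.HT.UDefs
import Cfsg.Agent.ClassicalGeometry.PSUAutMain
import Cfsg.Agent.S0277
import Mathlib.NumberTheory.Padics.PadicVal.Basic
import Mathlib.NumberTheory.Multiplicity

/-!
# S4933, box o.psu.e1: the frame stabiliser has index prime to `p`, `p ∣ q + 1` odd (helper298)

* `val_pow` : the valuation of `q ^ j - (-1) ^ j`;
* `card_MonGU` : `|MonGU| = n! (q + 1) ^ n`;
* `not_dvd_index_MonGU`, `index_Fr`, `not_dvd_index_Fr`.
-/

set_option autoImplicit false

namespace Cfsg.Agent.H298.HT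

open Cfsg Matrix Subgroup Cfsg.Agent.LieClassical.HermSiegel Cfsg.Agent.ClassicalGeometry.PSUAutCount
  Cfsg.Agent.Schreier.PSU Cfsg.Agent.H734.HT

/-! ### valuations -/

section val

variable {p : ℕ} [hp : Fact p.Prime] {q : ℕ}

theorem not_dvd_of_dvd_succ (hpq : p ∣ q + 1) : ¬ p ∣ q := by
  intro h
  have h1 := (Nat.dvd_add_right h).1 hpq
  exact hp.out.one_lt.ne' (Nat.dvd_one.1 h1)

/-- lifting the exponent for `-q` -/
theorem val_pow (h2 : p ≠ 2) (hpq : p ∣ q + 1) (hq : 0 < q) (i : ℕ) :
    padicValNat p (if Even i then q ^ (i + 1) + 1 else q ^ (i + 1) - 1) =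
      padicValNat p (q + 1) + padicValNat p (i + 1) := by
  have hodd := hp.out.odd_of_ne_two h2
  have hpq' := not_dvd_of_dvd_succ hpq
  split_ifs with h
  · have h3 := padicValNat.pow_add_pow hodd (x := q) (y := 1) hpq hpq' (n := i + 1) (Even.add_one h)
    rwa [one_pow] at h3
  · -- `i + 1 = 2 k`
    obtain ⟨k, hk⟩ : Even (i + 1) := (Nat.not_even_iff_odd.1 h).add_one
    have hk0 : k ≠ 0 := by omega
    have e1 : q ^ (i + 1) = (q ^ 2) ^ k := by rw [hk, ← two_mul, pow_mul]
    have hd : q ^ 2 - 1 = (q + 1) * (q - 1) := by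
      have := Nat.sq_sub_sq q 1
      simpa using this
    by_cases hq1 : q = 1
    · exfalso
      subst hq1
      exact h2 ((Nat.prime_dvd_prime_iff_eq hp.out Nat.prime_two).1 hpq)
    have hq2 : 1 < q ^ 2 := Nat.one_lt_pow (by norm_num) (by omega)
    have hp1 : ¬ p ∣ q - 1 := by
      intro h3
      have h4 : p ∣ (q + 1) - (q - 1) := Nat.dvd_sub hpq h3
      have h5 : q + 1 - (q - 1) = 2 := by omega
      rw [h5] at h4
      exact h2 ((Nat.prime_dvd_prime_iff_eq hp.out Nat.prime_two).1 h4)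
    have h3 := padicValNat.pow_sub_pow (p := p) hodd (x := q ^ 2) (y := 1) hq2
      (by rw [hd]; exact hpq.mul_right _) (fun h3 => hpq' (hp.out.dvd_of_dvd_pow h3)) hk0
    rw [one_pow] at h3
    rw [e1, h3, hd, padicValNat.mul (by omega) (by omega), padicValNat.eq_zero_of_not_dvd hp1, add_zero, hk, ← two_mul,
      padicValNat.mul (by norm_num) hk0, padicValNat.eq_zero_of_not_dvd (n := 2)
        (fun h4 => h2 ((Nat.prime_dvd_prime_iff_eq hp.out Nat.prime_two).1 h4)), zero_add]

theorem val_prod (h2 : p ≠ 2) (hpq : p ∣ q + 1) (hq : 0 < q) (n : ℕ) :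
    padicValNat p (∏ i ∈ Finset.range n, (if Even i then q ^ (i + 1) + 1 else q ^ (i + 1) - 1)) =
      padicValNat p ((q + 1) ^ n * n.factorial) := by
  have hq1 : q ≠ 1 := by
    rintro rfl
    exact h2 ((Nat.prime_dvd_prime_iff_eq hp.out Nat.prime_two).1 hpq)
  have hpos : ∀ i : ℕ, (if Even i then q ^ (i + 1) + 1 else q ^ (i + 1) - 1) ≠ 0 := by
    intro i
    split_ifs
    · omega
    · have := Nat.one_lt_pow (n := i + 1) (by omega) (show 1 < q by omega)
      omega
  induction n with
  | zero => simp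
  | succ n ih =>
    rw [Finset.prod_range_succ, padicValNat.mul (Finset.prod_ne_zero_iff.2 fun i _ => hpos i) (hpos n), ih,
      val_pow h2 hpq hq, Nat.factorial_succ, pow_succ, padicValNat.mul (by positivity) (Nat.factorial_ne_zero n),
      padicValNat.mul (by positivity) (by positivity), padicValNat.mul (by positivity) (by omega),
      padicValNat.mul (by omega) (Nat.factorial_ne_zero n)]
    ring

end val

/-! ### the monomial subgroup -/

section mon

variable {F : Type*} [Field F] [Fintype F] {n q : ℕ}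

/-- the scalars of norm one -/
theorem card_norm (hF : Fintype.card F = q ^ 2) : Nat.card {c : F // c * c ^ q = 1} = q + 1 := by
  rw [← Cfsg.Agent.LieClassical.GUOrder.card_ker_pow hF]
  refine Nat.card_congr
    { toFun := fun c => ⟨Units.mk0 c.1 (ne_zero_of_norm c.2), ?_⟩
      invFun := fun c => ⟨((c : Fˣ) : F), ?_⟩
      left_inv := fun c => rfl
      right_inv := fun c => ?_ }
  · rw [MonoidHom.mem_ker, powMonoidHom_apply]
    ext
    rw [Units.val_pow_eq_pow_val, Units.val_mk0, Units.val_one, pow_succ', c.2]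
  · have h1 := MonoidHom.mem_ker.1 c.2
    rw [powMonoidHom_apply] at h1
    have h2 := congrArg (fun x : Fˣ => (x : F)) h1
    simp only [Units.val_pow_eq_pow_val, Units.val_one] at h2
    rwa [pow_succ'] at h2
  · apply Subtype.ext
    exact Units.ext rfl

omit [Fintype F] in
theorem mgu_inj {σ τ : Equiv.Perm (Fin n)} {d e : Fin n → F} {hd : ∀ i, d i * d i ^ q = 1}
    {he : ∀ i, e i * e i ^ q = 1} (h : mgu σ d hd = mgu τ e he) : σ = τ ∧ d = e := by
  have h1 : σ = τ := Mon.uniq (Mon.mgu σ d hd) (by rw [h]; exact Mon.mgu τ e he)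
  refine ⟨h1, ?_⟩
  subst h1
  funext j
  have h2 := congrArg (fun A : GU n F q => gm A (σ j) j) h
  simp only [gm_mgu, mm_apply, if_true] at h2
  exact h2

/-- **`|MonGU|`** -/
theorem card_MonGU (hF : Fintype.card F = q ^ 2) (n : ℕ) :
    Nat.card (MonGU n F q) = (q + 1) ^ n * n.factorial := by
  classical
  let f : Equiv.Perm (Fin n) × (Fin n → {c : F // c * c ^ q = 1}) → MonGU n F q := fun x =>
    ⟨mgu x.1 (fun i => (x.2 i).1) (fun i => (x.2 i).2), x.1, Mon.mgu _ _ _⟩
  have hf : Function.Bijective f := by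
    constructor
    · rintro ⟨σ, d⟩ ⟨τ, e⟩ h
      obtain ⟨h1, h2⟩ := mgu_inj (hd := fun i => (d i).2) (he := fun i => (e i).2) (congrArg Subtype.val h)
      refine Prod.ext h1 ?_
      funext i
      exact Subtype.ext (congrFun h2 i)
    · rintro ⟨A, σ, hA⟩
      refine ⟨⟨σ, fun j => ⟨gm A (σ j) j, hA.norm j⟩⟩, Subtype.ext ?_⟩
      exact hA.eq_mgu.symm
  rw [← Nat.card_congr (Equiv.ofBijective f hf), Nat.card_prod, Nat.card_fun, card_norm hF, Nat.card_perm,
    Nat.card_eq_fintype_card, Fintype.card_fin, mul_comm]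

theorem two_le' (hF : Fintype.card F = q ^ 2) : 0 < q := by
  have h1 : 1 < Fintype.card F := Fintype.one_lt_card
  rw [hF] at h1
  by_contra hc
  have : q = 0 := by omega
  subst this
  simp at h1

/-- `p` does not divide the index of the monomial subgroup -/
theorem not_dvd_index_MonGU {p : ℕ} [hp : Fact p.Prime] (hF : Fintype.card F = q ^ 2) (h2 : p ≠ 2)
    (hpq : p ∣ q + 1) : ¬ p ∣ (MonGU n F q).index := by
  intro hd
  have hfin : Finite (GU n F q) := Cfsg.Agent.LieClassical.GUOrder.finite_GU n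
  have hq := two_le' hF
  have h1 := (MonGU n F q).card_mul_index
  rw [Cfsg.Agent.S0277.result hF n, card_MonGU hF] at h1
  have h3 := congrArg (padicValNat p) h1
  have hidx : (MonGU n F q).index ≠ 0 := Subgroup.index_ne_zero_of_finite
  have hprod : (∏ i ∈ Finset.range n, (if Even i then q ^ (i + 1) + 1 else q ^ (i + 1) - 1)) ≠ 0 := by
    intro h0
    rw [h0, mul_zero] at h1
    exact (Nat.mul_ne_zero (Nat.mul_ne_zero (by positivity) (Nat.factorial_ne_zero n)) hidx) h1
  rw [padicValNat.mul (Nat.mul_ne_zero (by positivity) (Nat.factorial_ne_zero n)) hidx,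
    padicValNat.mul (by positivity) hprod, val_prod h2 hpq hq, padicValNat.eq_zero_of_not_dvd
      (fun h => not_dvd_of_dvd_succ hpq (hp.out.dvd_of_dvd_pow h))] at h3
  have h4 : 1 ≤ padicValNat p (MonGU n F q).index := one_le_padicValNat_of_dvd hidx hd
  omega

end mon

/-! ### the frame stabiliser -/

/-- the index of a subgroup in a product -/
theorem index_comap_of_mul {A B : Type*} [Group A] [Group B] (f : A →* B) (H : Subgroup B)
    (h : ∀ b : B, ∃ a : A, ∃ c ∈ H, b = f a * c) : (H.comap f).index = H.index := by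
  let g : A ⧸ H.comap f → B ⧸ H := Quotient.map' f fun x y hxy => by
    rw [QuotientGroup.leftRel_apply] at hxy ⊢
    have h1 : f (x⁻¹ * y) ∈ H := hxy
    rwa [map_mul, map_inv] at h1
  have hg : Function.Bijective g := by
    constructor
    · intro x y
      induction x using QuotientGroup.induction_on with | _ x => ?_
      induction y using QuotientGroup.induction_on with | _ y => ?_
      intro hxy
      have h1 : ((f x : B) : B ⧸ H) = (f y : B) := hxy
      rw [QuotientGroup.eq] at h1 ⊢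
      rw [mem_comap, map_mul, map_inv]
      exact h1
    · intro b
      induction b using QuotientGroup.induction_on with | _ b => ?_
      obtain ⟨a, c, hc, rfl⟩ := h b
      refine ⟨(a : A ⧸ H.comap f), ?_⟩
      change ((f a : B) : B ⧸ H) = ((f a * c : B) : B ⧸ H)
      rw [QuotientGroup.eq, inv_mul_cancel_left]
      exact hc
  exact Nat.card_congr (Equiv.ofBijective g hg)

/-- **the index of the frame stabiliser is prime to `p`** -/
theorem not_dvd_index_Fr {p : ℕ} [Fact p.Prime] {F : Type} [Field F] [Fintype F] {n q : ℕ}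
    (hF : Fintype.card F = q ^ 2) (hn : 3 ≤ n) (h32 : ¬ (n = 3 ∧ q = 2)) (h2 : p ≠ 2) (hpq : p ∣ q + 1) :
    ¬ p ∣ (Cfsg.Agent.H734.HT.Fr n F q).index := by
  have h1 : ((Fr n F q).comap (f₁ : GU n F q →* MulAut (PSU n F q))).index = (Fr n F q).index := by
    apply index_comap_of_mul
    intro x
    obtain ⟨A, ρ, rfl⟩ := Cfsg.Agent.ClassicalGeometry.PSUAutMain.exists_toAut hF hn h32 x
    refine ⟨A, f₂ ρ, ?_, toAut_eq A ρ⟩
    refine ⟨1, 1, ρ, Mon.one, ?_⟩
    rw [toAut_eq, map_one, one_mul]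
  rw [← h1]
  intro hd
  refine not_dvd_index_MonGU (n := n) hF h2 hpq (hd.trans (index_dvd_of_le fun A hA => ?_))
  obtain ⟨σ, hA⟩ := hA
  rw [mem_comap]
  exact ⟨σ, A, 1, hA, by rw [toAut_eq, map_one, mul_one]⟩

end Cfsg.Agent.H298.HT
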