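import Cfsg.Agent.H144.HT.Rows
import Mathlib.Tactic.ReduceModChar

/-!
# `PSL₄(q)` and `PSU₄(q)`, `q` even: the vacuous rows of S4933 at `p = 2` (helper298)

`I`, `J` generate a nonabelian 2-group in `SU₃(q)` on the coordinates `1, 2, 3`; the permutation `W` of the last two
coordinates moves it to a commuting one.
-/

set_option autoImplicit false
set_option linter.unusedSectionVars false
set_option linter.unusedSimpArgs false
set_option linter.unreachableTactic false
set_option linter.unusedTactic false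

namespace Cfsg.Agent.H298.HT

open Subgroup Matrix Cfsg Cfsg.Agent.H316.HT Cfsg.Agent.H681.IP Cfsg.Agent.Cit.LongInst Cfsg.Agent.Cit.LongModel
open Cfsg.Agent.H144.HT

section mats

variable {F : Type*} [Field F] (a : F)

/-- `v ↦ v + H(v, e) e₃ + H(v, e₃) e + a H(v, e) e`, `e = e₁ + e₂` -/
def mI : Matrix (Fin 4) (Fin 4) F := !![1 + a, a, 1, 0; a, 1 + a, 1, 0; 1, 1, 1, 0; 0, 0, 0, 1]

/-- the same with `a e₃`, `b = a (a + 1) a` -/
def mJ : Matrix (Fin 4) (Fin 4) F :=
  !![1 + (a * a + a) * a, (a * a + a) * a, a + 1, 0; (a * a + a) * a, 1 + (a * a + a) * a, a + 1, 0;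
    a, a, 1, 0; 0, 0, 0, 1]

/-- the permutation of the last two coordinates -/
def mW (F : Type*) [Field F] : Matrix (Fin 4) (Fin 4) F := !![1, 0, 0, 0; 0, 1, 0, 0; 0, 0, 0, 1; 0, 0, 1, 0]

/-- the conjugate of `mI` -/
def mI' : Matrix (Fin 4) (Fin 4) F := !![1 + a, a, 0, 1; a, 1 + a, 0, 1; 0, 0, 1, 0; 1, 1, 0, 1]

/-- the conjugate of `mJ` -/
def mJ' : Matrix (Fin 4) (Fin 4) F :=
  !![1 + (a * a + a) * a, (a * a + a) * a, 0, a + 1; (a * a + a) * a, 1 + (a * a + a) * a, 0, a + 1;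
    0, 0, 1, 0; a, a, 0, 1]

/-- `mI ^ 2` -/
def mZ (F : Type*) [Field F] : Matrix (Fin 4) (Fin 4) F := !![0, 1, 0, 0; 1, 0, 0, 0; 0, 0, 1, 0; 0, 0, 0, 1]

/-- `mJ ^ 2` -/
def mY : Matrix (Fin 4) (Fin 4) F :=
  !![1 + (a * a + a), a * a + a, 0, 0; a * a + a, 1 + (a * a + a), 0, 0; 0, 0, 1, 0; 0, 0, 0, 1]

variable [CharP F 2]

theorem mI_sq : mI a * mI a = mZ F := by
  ext i j
  fin_cases i <;> fin_cases j <;> simp [mI, mJ, mI', mJ', mW, mZ, mY, Matrix.mul_apply, Fin.sum_univ_four] <;>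
    (try ring_nf) <;> (try reduce_mod_char!)

theorem mJ_sq : mJ a * mJ a = mY a := by
  ext i j
  fin_cases i <;> fin_cases j <;> simp [mI, mJ, mI', mJ', mW, mZ, mY, Matrix.mul_apply, Fin.sum_univ_four] <;>
    (try ring_nf) <;> (try reduce_mod_char!)

theorem mZ_sq : mZ F * mZ F = 1 := by
  ext i j
  fin_cases i <;> fin_cases j <;> simp [mI, mJ, mI', mJ', mW, mZ, mY, Matrix.mul_apply, Fin.sum_univ_four] <;>
    (try ring_nf) <;> (try reduce_mod_char!)

theorem mY_sq : mY a * mY a = 1 := by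
  ext i j
  fin_cases i <;> fin_cases j <;> simp [mI, mJ, mI', mJ', mW, mZ, mY, Matrix.mul_apply, Fin.sum_univ_four] <;>
    (try ring_nf) <;> (try reduce_mod_char!)

theorem mW_sq : mW F * mW F = 1 := by
  ext i j
  fin_cases i <;> fin_cases j <;> simp [mI, mJ, mI', mJ', mW, mZ, mY, Matrix.mul_apply, Fin.sum_univ_four] <;>
    (try ring_nf) <;> (try reduce_mod_char!)

theorem mI_mJ : mI a * mJ a * mI a = mJ a := by
  ext i j
  fin_cases i <;> fin_cases j <;> simp [mI, mJ, mI', mJ', mW, mZ, mY, Matrix.mul_apply, Fin.sum_univ_four] <;>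
    (try ring_nf) <;> (try reduce_mod_char!)

theorem mW_mI : mW F * mI a * mW F = mI' a := by
  ext i j
  fin_cases i <;> fin_cases j <;> simp [mI, mJ, mI', mJ', mW, mZ, mY, Matrix.mul_apply, Fin.sum_univ_four] <;>
    (try ring_nf) <;> (try reduce_mod_char!)

theorem mW_mJ : mW F * mJ a * mW F = mJ' a := by
  ext i j
  fin_cases i <;> fin_cases j <;> simp [mI, mJ, mI', mJ', mW, mZ, mY, Matrix.mul_apply, Fin.sum_univ_four] <;>
    (try ring_nf) <;> (try reduce_mod_char!)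

theorem c1 : mI a * mI' a = mI' a * mI a := by
  ext i j
  fin_cases i <;> fin_cases j <;> simp [mI, mJ, mI', mJ', mW, mZ, mY, Matrix.mul_apply, Fin.sum_univ_four] <;>
    (try ring_nf) <;> (try reduce_mod_char!)

theorem c2 : mI a * mJ' a = mJ' a * mI a := by
  ext i j
  fin_cases i <;> fin_cases j <;> simp [mI, mJ, mI', mJ', mW, mZ, mY, Matrix.mul_apply, Fin.sum_univ_four] <;>
    (try ring_nf) <;> (try reduce_mod_char!)

theorem c3 : mJ a * mI' a = mI' a * mJ a := by
  ext i j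
  fin_cases i <;> fin_cases j <;> simp [mI, mJ, mI', mJ', mW, mZ, mY, Matrix.mul_apply, Fin.sum_univ_four] <;>
    (try ring_nf) <;> (try reduce_mod_char!)

theorem c4 : mJ a * mJ' a = mJ' a * mJ a := by
  ext i j
  fin_cases i <;> fin_cases j <;> simp [mI, mJ, mI', mJ', mW, mZ, mY, Matrix.mul_apply, Fin.sum_univ_four] <;>
    (try ring_nf) <;> (try reduce_mod_char!)

theorem det_mI : (mI a).det = 1 := by
  simp [mI, Matrix.det_succ_row_zero, Fin.sum_univ_succ, Fin.succAbove]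
  ring_nf
  reduce_mod_char!

theorem det_mJ : (mJ a).det = 1 := by
  simp [mJ, Matrix.det_succ_row_zero, Fin.sum_univ_succ, Fin.succAbove]
  ring_nf
  reduce_mod_char!

theorem det_mW : (mW F).det = 1 := by
  simp [mW, Matrix.det_succ_row_zero, Fin.sum_univ_succ, Fin.succAbove]
  ring_nf
  reduce_mod_char!

variable {a} {T : Set (F →+* F)}

theorem cond_mI (ha : ∀ t ∈ T, t a = a + 1) : Cond T (mI a) := by
  refine ⟨det_mI a, fun t ht => ?_⟩
  have h := ha t ht
  ext i j
  fin_cases i <;> fin_cases j <;> simp [mI, Matrix.mul_apply, Fin.sum_univ_four, h] <;>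
    (try ring_nf) <;> (try reduce_mod_char!)

theorem cond_mJ (ha : ∀ t ∈ T, t a = a + 1) : Cond T (mJ a) := by
  refine ⟨det_mJ a, fun t ht => ?_⟩
  have h := ha t ht
  ext i j
  fin_cases i <;> fin_cases j <;> simp [mJ, Matrix.mul_apply, Fin.sum_univ_four, h] <;>
    (try ring_nf) <;> (try reduce_mod_char!)

theorem cond_mW : Cond T (mW F) := by
  refine ⟨det_mW, fun t ht => ?_⟩
  ext i j
  fin_cases i <;> fin_cases j <;> simp [mW, Matrix.mul_apply, Fin.sum_univ_four]

end mats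

/-- **The generic row.** -/
theorem row_of_alpha (hIP : IPTwo) {F : Type*} [Field F] [CharP F 2] {T : Set (F →+* F)} {a : F}
    (ha : ∀ t ∈ T, t a = a + 1) {S : Type*} [Group S] (f : Un T (Fin 4) →* S)
    (hf : ∀ A : Un T (Fin 4), f A = 1 → ∃ c : F, (A : SpecialLinearGroup (Fin 4) F).1 = c • 1) : Row 2 S := by
  let i0 : Un T (Fin 4) := Un.mk (cond_mI ha)
  let j0 : Un T (Fin 4) := Un.mk (cond_mJ ha)
  let w0 : Un T (Fin 4) := Un.mk (cond_mW (F := F))
  have hext : ∀ A B : Un T (Fin 4), A.1.1 = B.1.1 → A = B := fun A B h => Subtype.ext (Subtype.ext h)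
  have hi1 : i0.1.1 = mI a := rfl
  have hj1 : j0.1.1 = mJ a := rfl
  have hw1 : w0.1.1 = mW F := rfl
  have hm : ∀ A B : Un T (Fin 4), (A * B).1.1 = A.1.1 * B.1.1 := fun A B => rfl
  have h1 : (1 : Un T (Fin 4)).1.1 = 1 := rfl
  have h4 : ∀ x : Un T (Fin 4), x ^ 2 ^ 2 = x * x * (x * x) := fun x => by
    rw [show (2 : ℕ) ^ 2 = 2 + 2 by norm_num, pow_add, pow_two]
  have hi : i0 ^ 2 ^ 2 = 1 := by
    apply hext
    rw [h4, hm, hm, hi1, h1, mI_sq, mZ_sq]
  have hj : j0 ^ 2 ^ 2 = 1 := by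
    apply hext
    rw [h4, hm, hm, hj1, h1, mJ_sq, mY_sq]
  have hww : w0 * w0 = 1 := by
    apply hext
    rw [hm, hw1, h1, mW_sq]
  have hw2 : w0 ^ 2 = 1 := by rw [pow_two, hww]
  have hw : w0 ^ 2 ^ 2 = 1 := by
    rw [h4, hww, one_mul]
  have hwinv : w0⁻¹ = w0 := inv_eq_of_mul_eq_one_left hww
  have hij : j0 * i0 * j0⁻¹ = i0⁻¹ := by
    rw [mul_inv_eq_iff_eq_mul, eq_inv_mul_iff_mul_eq, ← mul_assoc]
    apply hext
    rw [hm, hm, hi1, hj1, mI_mJ]
  have hwi : (w0 * i0 * w0⁻¹).1.1 = mI' a := by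
    rw [hwinv, hm, hm, hw1, hi1, mW_mI]
  have hwj : (w0 * j0 * w0⁻¹).1.1 = mJ' a := by
    rw [hwinv, hm, hm, hw1, hj1, mW_mJ]
  refine row_quat hIP (i := f i0) (j := f j0) (w := f w0) (n := 2) (by rw [← map_pow, hi, map_one])
    (by rw [← map_pow, hj, map_one]) (by rw [← map_inv, ← map_inv, ← map_mul, ← map_mul, hij])
    (by rw [← map_pow, hw, map_one]) ?_ ?_ ?_ ?_ ?_ ?_ ?_
  · rw [← map_pow, hw2, map_one]; exact Commute.one_left _
  · rw [← map_pow, hw2, map_one]; exact Commute.one_left _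
  · rw [← map_inv, ← map_mul, ← map_mul]
    exact (show Commute i0 (w0 * i0 * w0⁻¹) from hext _ _ (by
      rw [hm i0 (w0 * i0 * w0⁻¹), hm (w0 * i0 * w0⁻¹) i0, hi1, hwi, c1])).map f
  · rw [← map_inv, ← map_mul, ← map_mul]
    exact (show Commute i0 (w0 * j0 * w0⁻¹) from hext _ _ (by
      rw [hm i0 (w0 * j0 * w0⁻¹), hm (w0 * j0 * w0⁻¹) i0, hi1, hwj, c2])).map f
  · rw [← map_inv, ← map_mul, ← map_mul]
    exact (show Commute j0 (w0 * i0 * w0⁻¹) from hext _ _ (by
      rw [hm j0 (w0 * i0 * w0⁻¹), hm (w0 * i0 * w0⁻¹) j0, hj1, hwi, c3])).map f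
  · rw [← map_inv, ← map_mul, ← map_mul]
    exact (show Commute j0 (w0 * j0 * w0⁻¹) from hext _ _ (by
      rw [hm j0 (w0 * j0 * w0⁻¹), hm (w0 * j0 * w0⁻¹) j0, hj1, hwj, c4])).map f
  · intro h
    rw [← map_pow] at h
    obtain ⟨c, hc⟩ := hf _ h
    rw [pow_two, hm, hi1, mI_sq] at hc
    have e1 := congrFun (congrFun hc 0) 1
    simp [mZ] at e1

theorem charP_two {F : Type*} [Field F] [Fintype F] (h : Even (Fintype.card F)) : CharP F 2 := by
  have h1 : ringChar F = 2 := FiniteField.even_card_iff_char_two.2 (Nat.even_iff.1 h)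
  rw [← h1]
  infer_instance

/-- **`PSL₄(q)`, `q` even** -/
theorem row_psl4 (F : Type) [Field F] [Fintype F] (he : Even (Fintype.card F)) :
    Row 2 (ProjectiveSpecialLinearGroup (Fin 4) F) := by
  have := charP_two he
  refine row_of_alpha ipTwo (T := (∅ : Set (F →+* F))) (a := 0) (fun t ht => absurd ht (Set.notMem_empty t))
    ((QuotientGroup.mk' (center (SpecialLinearGroup (Fin 4) F))).comp (Un ∅ (Fin 4)).subtype) fun A hA => ?_
  have h1 : A.1 ∈ center (SpecialLinearGroup (Fin 4) F) := (QuotientGroup.eq_one_iff _).1 hA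
  rw [Matrix.SpecialLinearGroup.mem_center_iff] at h1
  obtain ⟨c, -, hc⟩ := h1
  exact ⟨c, by rw [← hc]; ext i j; simp [Matrix.scalar_apply, Matrix.diagonal_apply, Matrix.one_apply]⟩

theorem exists_alpha {F : Type*} [Field F] [Fintype F] {q : ℕ} (hF : Fintype.card F = q ^ 2) [CharP F 2] :
    ∃ a : F, cj hF a = a + 1 := by
  classical
  have hq : 1 < q := by
    have h1 : 1 < Fintype.card F := Fintype.one_lt_card
    rw [hF] at h1
    by_contra hc
    interval_cases q <;> simp at h1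
  obtain ⟨x, hx⟩ : ∃ x : F, x ^ q ≠ x := by
    by_contra hno
    push Not at hno
    have h1 : (Finset.univ : Finset F).card ≤ (Polynomial.X ^ q - Polynomial.X : Polynomial F).roots.toFinset.card := by
      refine Finset.card_le_card fun t _ => ?_
      rw [Multiset.mem_toFinset, Polynomial.mem_roots (FiniteField.X_pow_card_sub_X_ne_zero F hq)]
      simp [Polynomial.IsRoot, hno t]
    have h2 := (Multiset.toFinset_card_le _).trans (Polynomial.card_roots'
      (Polynomial.X ^ q - Polynomial.X : Polynomial F))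
    rw [FiniteField.X_pow_card_sub_X_natDegree_eq F hq] at h2
    rw [Finset.card_univ, hF] at h1
    nlinarith
  have h2 : (2 : F) = 0 := CharP.cast_eq_zero F 2
  have hxx : cj hF (cj hF x) = x := by
    rw [cj_apply, cj_apply, ← pow_mul, ← pow_two, ← hF, FiniteField.pow_card]
  have hx' : cj hF x ≠ x := hx
  have hc : x + cj hF x ≠ 0 := by
    intro h
    apply hx'
    linear_combination h - x * h2
  refine ⟨x / (x + cj hF x), ?_⟩
  have h3 : cj hF (x + cj hF x) = x + cj hF x := by rw [map_add, hxx, add_comm]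
  rw [map_div₀, h3]
  field_simp
  linear_combination -x * h2

/-- **`PSU₄(q)`, `q` even** -/
theorem row_psu4 (F : Type) [Field F] [Fintype F] (q : ℕ) (hF : Fintype.card F = q ^ 2) (he : Even q) :
    Row 2 (PSU 4 F q) := by
  have heF : Even (Fintype.card F) := by
    rw [hF]
    exact he.pow_of_ne_zero (by norm_num)
  have := charP_two heF
  obtain ⟨a, ha⟩ := exists_alpha hF
  let g : Un ({cj hF} : Set (F →+* F)) (Fin 4) →* SU 4 F q :=
    ((Un {cj hF} (Fin 4)).subtype).codRestrict _ fun A => (su_cond hF A.1).2 A.2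
  refine row_of_alpha ipTwo (T := {cj hF}) (a := a) (fun t ht => by rw [Set.mem_singleton_iff.1 ht, ha])
    ((QuotientGroup.mk' (center (SU 4 F q))).comp g) fun A hA => ?_
  have h1 : g A ∈ center (SU 4 F q) := (QuotientGroup.eq_one_iff _).1 hA
  exact su_cen hF (by norm_num) _ h1

end Cfsg.Agent.H298.HT
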