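import Cfsg.Agent.H662.HT.Frame
import Cfsg.Agent.H662.GW.QPCen

/-!
# Half-transitive linear groups: the `s`-part of `F` is of symplectic type (S3540, S3577; helper298)

E2 of `tools/plans/HT_E.md`: `sym_of_F`.
-/

set_option autoImplicit false

open scoped commutatorElement

namespace Cfsg.Agent.H298.HT

open Cfsg.Agent.H828.HT Cfsg.Agent.H662.HT Subgroup

universe u

/-! ### Group theory -/

section group

variable {Γ : Type u} [Group Γ]

/-- in a cyclic group the solutions of `a ^ s = 1` are the powers of any element of order `s` -/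
theorem exists_zpow {A : Subgroup Γ} [Finite A] (hcyc : IsCyclic A) {s : ℕ} (hs : s.Prime) {w : Γ} (hw : w ∈ A)
    (hws : w ^ s = 1) (hw1 : w ≠ 1) {a : Γ} (ha : a ∈ A) (has : a ^ s = 1) : ∃ i : ℤ, a = w ^ i := by
  classical
  have := Fintype.ofFinite A
  have ho : orderOf (⟨w, hw⟩ : A) = s := by
    rw [← orderOf_coe]
    have : Fact s.Prime := ⟨hs⟩
    exact orderOf_eq_prime hws hw1
  have h1 : (Finset.univ.filter fun b : A => b ^ s = 1).card ≤ s := IsCyclic.card_pow_eq_one_le hs.pos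
  let f : Finset A := (Finset.range s).image fun k => (⟨w, hw⟩ : A) ^ k
  have hf : f.card = s := by
    rw [Finset.card_image_of_injOn, Finset.card_range]
    intro i hi j hj hij
    exact pow_injOn_Iio_orderOf (by rw [ho]; exact Finset.mem_range.1 hi) (by rw [ho]; exact Finset.mem_range.1 hj) hij
  have hsub : f ⊆ Finset.univ.filter fun b : A => b ^ s = 1 := by
    intro b hb
    obtain ⟨k, -, rfl⟩ := Finset.mem_image.1 hb
    rw [Finset.mem_filter]
    refine ⟨Finset.mem_univ _, Subtype.ext ?_⟩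
    change (w ^ k) ^ s = 1
    rw [← pow_mul, mul_comm, pow_mul, hws, one_pow]
  have heq := Finset.eq_of_subset_of_card_le hsub (by rw [hf]; exact h1)
  have h3 : (⟨a, ha⟩ : A) ∈ f := by
    rw [heq, Finset.mem_filter]
    exact ⟨Finset.mem_univ _, Subtype.ext has⟩
  obtain ⟨k, -, hk⟩ := Finset.mem_image.1 h3
  refine ⟨k, ?_⟩
  have h4 : w ^ k = a := congrArg Subtype.val hk
  rw [← h4, zpow_natCast]

/-- centralisers of elements have index `s` -/
theorem card_centralizer [Finite Γ] {A : Subgroup Γ} (hcyc : IsCyclic A) {s : ℕ} (hs : s.Prime) (H : Subgroup Γ)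
    (x : Γ) (hc : ∀ h ∈ H, ⁅h, x⁆ ∈ A) (hA : ∀ a ∈ A, ∀ h ∈ H, a * h = h * a) (hexp : ∀ h ∈ H, ⁅h, x⁆ ^ s = 1)
    (hne : ∃ h ∈ H, ⁅h, x⁆ ≠ 1) : Nat.card H = s * Nat.card ↥(H ⊓ centralizer ({x} : Set Γ)) := by
  let f : H →* A :=
    { toFun := fun h => ⟨⁅(h : Γ), x⁆, hc h h.2⟩
      map_one' := Subtype.ext (by simp)
      map_mul' := fun a b => Subtype.ext (by
        change ⁅(a : Γ) * b, x⁆ = ⁅(a : Γ), x⁆ * ⁅(b : Γ), x⁆
        have h1 : ⁅(a : Γ) * b, x⁆ = a * ⁅(b : Γ), x⁆ * (a : Γ)⁻¹ * ⁅(a : Γ), x⁆ := by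
          simp only [commutatorElement_def]; group
        have h2 := hA _ (hc b b.2) a a.2
        have h3 : ⁅(a : Γ), x⁆ * ⁅(b : Γ), x⁆ = ⁅(b : Γ), x⁆ * ⁅(a : Γ), x⁆ := by
          have := hcyc
          have h4 : (⟨_, hc a a.2⟩ : A) * ⟨_, hc b b.2⟩ = ⟨_, hc b b.2⟩ * ⟨_, hc a a.2⟩ :=
            IsCyclic.commGroup.mul_comm _ _
          exact congrArg Subtype.val h4
        rw [h1, ← h2, mul_inv_cancel_right, h3]) }
  have hker : f.ker = (centralizer ({x} : Set Γ)).subgroupOf H := by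
    ext h
    rw [MonoidHom.mem_ker, mem_subgroupOf, mem_centralizer_singleton_iff]
    rw [← commutatorElement_eq_one_iff_mul_comm]
    exact ⟨fun e => congrArg Subtype.val e, fun e => Subtype.ext e⟩
  have hcard : Nat.card H = Nat.card f.ker * Nat.card f.range := by
    rw [← Subgroup.index_ker, Subgroup.card_mul_index]
  have hk : Nat.card f.ker = Nat.card ↥(H ⊓ centralizer ({x} : Set Γ)) := by
    rw [hker, Nat.card_congr (((centralizer ({x} : Set Γ)).subgroupOf H).equivMapOfInjective H.subtype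
      H.subtype_injective).toEquiv, subgroupOf_map_subtype, inf_comm]
  have hr : Nat.card f.range = s := by
    have hcr : IsCyclic f.range := inferInstance
    obtain ⟨⟨_, h, rfl⟩, hg⟩ := hcr.exists_generator
    rw [← orderOf_eq_card_of_forall_mem_zpowers hg]
    have : Fact s.Prime := ⟨hs⟩
    apply orderOf_eq_prime
    · exact Subtype.ext (Subtype.ext (hexp h h.2))
    · intro h1
      obtain ⟨h', hh', hne⟩ := hne
      apply hne
      obtain ⟨k, hk⟩ := mem_zpowers_iff.1 (hg ⟨_, ⟨h', hh'⟩, rfl⟩)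
      rw [h1, one_zpow] at hk
      exact congrArg (fun z : f.range => ((z : A) : Γ)) hk.symm
  rw [hcard, hk, hr, mul_comm]

/-- sections of symplectic type have square order -/
theorem card_form [Finite Γ] {A : Subgroup Γ} (hcyc : IsCyclic A) {s : ℕ} (hs : s.Prime) :
    ∀ (n : ℕ) (K : Subgroup Γ), Nat.card K = n → A ≤ K → (∀ a ∈ A, ∀ k ∈ K, a * k = k * a) →
      (∀ x ∈ K, ∀ y ∈ K, ⁅x, y⁆ ∈ A) → (∀ x ∈ K, x ^ s ∈ A) → (∀ x ∈ K, (∀ y ∈ K, x * y = y * x) → x ∈ A) →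
      ∃ b : ℕ, Nat.card K = Nat.card A * s ^ (2 * b) := by
  intro n
  induction n using Nat.strong_induction_on with
  | _ n ih =>
  intro K hn hAK hAc hcomm hexp hz
  -- bilinearity
  have hl : ∀ x ∈ K, ∀ y ∈ K, ∀ z ∈ K, ⁅x * y, z⁆ = ⁅x, z⁆ * ⁅y, z⁆ := by
    intro x hx y hy z hz
    have h1 : ⁅x * y, z⁆ = x * ⁅y, z⁆ * x⁻¹ * ⁅x, z⁆ := by simp only [commutatorElement_def]; group
    rw [h1, ← hAc _ (hcomm y hy z hz) x hx, mul_inv_cancel_right,
      hAc _ (hcomm y hy z hz) _ (hAK (hcomm x hx z hz))]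
  have hlz : ∀ x ∈ K, ∀ z ∈ K, ∀ i : ℤ, ⁅x ^ i, z⁆ = ⁅x, z⁆ ^ i := by
    intro x hx z hz i
    let f : K →* Γ :=
      { toFun := fun k => ⁅(k : Γ), z⁆
        map_one' := by simp
        map_mul' := fun a b => hl a a.2 b b.2 z hz }
    have := map_zpow f ⟨x, hx⟩ i
    exact this
  have hpw : ∀ x ∈ K, ∀ y ∈ K, ⁅x, y⁆ ^ s = 1 := by
    intro x hx y hy
    have h1 := hlz x hx y hy s
    rw [zpow_natCast, zpow_natCast] at h1
    rw [← h1]
    exact commutatorElement_eq_one_iff_mul_comm.2 (hAc _ (hexp x hx) y hy)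
  by_cases hab : ∀ x ∈ K, ∀ y ∈ K, ⁅x, y⁆ = 1
  · refine ⟨0, ?_⟩
    have : K = A := le_antisymm (fun x hx => hz x hx fun y hy => commutatorElement_eq_one_iff_mul_comm.1 (hab x hx y hy))
      hAK
    rw [this, mul_zero, pow_zero, mul_one]
  · push Not at hab
    obtain ⟨x, hx, y, hy, hxy⟩ := hab
    have hyx : ⁅y, x⁆ ≠ 1 := by
      rw [← commutatorElement_inv]
      exact fun h => hxy (inv_eq_one.1 h)
    let K1 := K ⊓ centralizer ({x} : Set Γ)
    let K2 := K1 ⊓ centralizer ({y} : Set Γ)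
    have c1 : Nat.card K = s * Nat.card K1 := card_centralizer hcyc hs K x (fun h hh => hcomm h hh x hx)
      hAc (fun h hh => hpw h hh x hx) ⟨y, hy, hyx⟩
    have c2 : Nat.card K1 = s * Nat.card K2 := card_centralizer hcyc hs K1 y (fun h hh => hcomm h hh.1 y hy)
      (fun a ha h hh => hAc a ha h hh.1) (fun h hh => hpw h hh.1 y hy)
      ⟨x, ⟨hx, mem_centralizer_singleton_iff.2 rfl⟩, hxy⟩
    have hK2 : ∀ k, k ∈ K2 ↔ k ∈ K ∧ ⁅k, x⁆ = 1 ∧ ⁅k, y⁆ = 1 := by
      intro k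
      rw [commutatorElement_eq_one_iff_mul_comm, commutatorElement_eq_one_iff_mul_comm]
      constructor
      · rintro ⟨⟨h1, h2⟩, h3⟩
        exact ⟨h1, mem_centralizer_singleton_iff.1 h2, mem_centralizer_singleton_iff.1 h3⟩
      · rintro ⟨h1, h2, h3⟩
        exact ⟨⟨h1, mem_centralizer_singleton_iff.2 h2⟩, mem_centralizer_singleton_iff.2 h3⟩
    have hlt : Nat.card K2 < n := by
      have h1 : 0 < Nat.card K2 := Nat.card_pos
      have h2 := hs.two_le
      rw [← hn, c1, c2]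
      nlinarith
    obtain ⟨b, hb⟩ := ih _ hlt K2 rfl (fun a ha => by
        rw [hK2]
        exact ⟨hAK ha, commutatorElement_eq_one_iff_mul_comm.2 (hAc a ha x hx),
          commutatorElement_eq_one_iff_mul_comm.2 (hAc a ha y hy)⟩)
      (fun a ha k hk => hAc a ha k hk.1.1) (fun x hx y hy => hcomm x hx.1.1 y hy.1.1) (fun x hx => hexp x hx.1.1)
      (fun z hzK hzc => by
        apply hz z hzK.1.1
        intro k hk
        obtain ⟨i, hi⟩ := exists_zpow hcyc hs (hcomm x hx y hy) (hpw x hx y hy) hxy (hcomm k hk y hy) (hpw k hk y hy)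
        obtain ⟨j, hj⟩ := exists_zpow hcyc hs (hcomm y hy x hx) (hpw y hy x hx) hyx (hcomm k hk x hx) (hpw k hk x hx)
        have hk' : k * (x ^ (-i) * y ^ (-j)) ∈ K2 := by
          rw [hK2]
          have hxi : x ^ (-i) ∈ K := K.zpow_mem hx _
          have hyj : y ^ (-j) ∈ K := K.zpow_mem hy _
          refine ⟨K.mul_mem hk (K.mul_mem hxi hyj), ?_, ?_⟩
          · rw [hl k hk _ (K.mul_mem hxi hyj) x hx, hl _ hxi _ hyj x hx, hlz x hx x hx, hlz y hy x hx,
              commutatorElement_self, one_zpow, one_mul, hj, ← zpow_add, add_neg_cancel, zpow_zero]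
          · rw [hl k hk _ (K.mul_mem hxi hyj) y hy, hl _ hxi _ hyj y hy, hlz x hx y hy, hlz y hy y hy,
              commutatorElement_self, one_zpow, mul_one, hi, ← zpow_add, add_neg_cancel, zpow_zero]
        have h1 := hzc _ hk'
        have hzx : Commute z x := commutatorElement_eq_one_iff_mul_comm.1 ((hK2 z).1 hzK).2.1
        have hzy : Commute z y := commutatorElement_eq_one_iff_mul_comm.1 ((hK2 z).1 hzK).2.2
        have h2 : Commute z (x ^ (-i) * y ^ (-j)) := (hzx.zpow_right _).mul_right (hzy.zpow_right _)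
        have h3 : Commute z (k * (x ^ (-i) * y ^ (-j))) := h1
        have h4 : Commute z (k * (x ^ (-i) * y ^ (-j)) * (x ^ (-i) * y ^ (-j))⁻¹) := h3.mul_right h2.inv_right
        rwa [mul_inv_cancel_right] at h4)
    refine ⟨b + 1, ?_⟩
    rw [c1, c2, hb]
    ring

/-- the power formula in class two -/
theorem mul_pow_two {x y c : Γ} (hc : y * x = c * (x * y)) (hx : Commute c x) (hy : Commute c y) (n : ℕ) :
    (x * y) ^ n = x ^ n * y ^ n * c ^ n.choose 2 := by
  have h1 : ∀ n : ℕ, y ^ n * x = c ^ n * (x * y ^ n) := by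
    intro n
    induction n with
    | zero => simp
    | succ n ih =>
      have h2 : c ^ n * y = y * c ^ n := (hy.pow_left n).eq
      calc y ^ (n + 1) * x = y * (y ^ n * x) := by rw [pow_succ', mul_assoc]
        _ = y * c ^ n * (x * y ^ n) := by rw [ih, mul_assoc]
        _ = c ^ n * (y * x) * y ^ n := by rw [← h2]; simp only [mul_assoc]
        _ = c ^ n * c * (x * (y * y ^ n)) := by rw [hc]; simp only [mul_assoc]
        _ = c ^ (n + 1) * (x * y ^ (n + 1)) := by rw [← pow_succ, ← pow_succ']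
  induction n with
  | zero => simp
  | succ n ih =>
    have h2 : c ^ n.choose 2 * (x * y) = x * y * c ^ n.choose 2 :=
      ((hx.pow_left _).mul_right (hy.pow_left _)).eq
    have h3 : x ^ n * c ^ n = c ^ n * x ^ n := ((hx.pow_right n).pow_left n).symm.eq
    have h4 : c ^ n * (x ^ (n + 1) * y ^ (n + 1)) = x ^ (n + 1) * y ^ (n + 1) * c ^ n :=
      (((hx.pow_right _).mul_right (hy.pow_right _)).pow_left n).eq
    calc (x * y) ^ (n + 1) = x ^ n * y ^ n * (c ^ n.choose 2 * (x * y)) := by rw [pow_succ, ih, mul_assoc]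
      _ = x ^ n * (y ^ n * x) * y * c ^ n.choose 2 := by rw [h2]; simp only [mul_assoc]
      _ = (x ^ n * c ^ n) * x * (y ^ n * y) * c ^ n.choose 2 := by rw [h1]; simp only [mul_assoc]
      _ = c ^ n * (x ^ (n + 1) * y ^ (n + 1)) * c ^ n.choose 2 := by
        rw [h3, ← pow_succ y]; simp only [pow_succ x, mul_assoc]
      _ = x ^ (n + 1) * y ^ (n + 1) * c ^ (n + 1).choose 2 := by
        rw [h4, mul_assoc _ (c ^ n), ← pow_add, Nat.choose_succ_succ' n 1, Nat.choose_one_right]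

/-- coordinates modulo `s`-th powers in a cyclic group -/
theorem exists_theta [Finite Γ] {A : Subgroup Γ} (hcyc : IsCyclic A) {s : ℕ} (hs : s.Prime) (hd : s ∣ Nat.card A) :
    ∃ θ : A →* Multiplicative (ZMod s), (∀ a : A, θ a = 1 ↔ ∃ b : A, a = b ^ s) ∧
      ((s ≠ 2 ∨ 4 ∣ Nat.card A) → ∀ c : A, c ^ s = 1 → θ (c ^ s.choose 2) = 1) := by
  have : NeZero (Nat.card A) := ⟨Nat.card_pos.ne'⟩
  have hs' : Fact s.Prime := ⟨hs⟩
  let e : A ≃* Multiplicative (ZMod (Nat.card A)) := (zmodCyclicMulEquiv hcyc).symm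
  let r : Multiplicative (ZMod (Nat.card A)) →* Multiplicative (ZMod s) :=
    (ZMod.castHom hd (ZMod s)).toAddMonoidHom.toMultiplicative
  let θ : A →* Multiplicative (ZMod s) := r.comp e.toMonoidHom
  have hθ : ∀ a : A, θ a = Multiplicative.ofAdd ((ZMod.castHom hd (ZMod s)) (Multiplicative.toAdd (e a))) := fun a => rfl
  have hpow : ∀ b : A, θ (b ^ s) = 1 := by
    intro b
    rw [map_pow, hθ, ← ofAdd_nsmul, nsmul_eq_mul, CharP.cast_eq_zero, zero_mul, ofAdd_zero]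
  refine ⟨θ, fun a => ⟨fun h => ?_, ?_⟩, ?_⟩
  · have h1 : (ZMod.castHom hd (ZMod s)) (Multiplicative.toAdd (e a)) = 0 := by
      rw [hθ] at h
      exact h
    set k : ZMod (Nat.card A) := Multiplicative.toAdd (e a) with hk
    have h2 : ((k.val : ℕ) : ZMod s) = 0 := by
      rw [← h1, ZMod.castHom_apply, ZMod.natCast_val]
    obtain ⟨m, hm⟩ := (ZMod.natCast_eq_zero_iff k.val s).1 h2
    refine ⟨e.symm (Multiplicative.ofAdd (m : ZMod (Nat.card A))), ?_⟩
    apply e.injective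
    rw [map_pow, e.apply_symm_apply, ← ofAdd_nsmul]
    apply Multiplicative.toAdd.injective
    rw [toAdd_ofAdd, nsmul_eq_mul, ← Nat.cast_mul, ← hm, ZMod.natCast_zmod_val]
  · rintro ⟨b, rfl⟩
    exact hpow b
  · intro h4 c hc
    by_cases h2 : s = 2
    · subst h2
      have h4' : 4 ∣ Nat.card A := h4.resolve_left (fun h => h rfl)
      rw [show Nat.choose 2 2 = 1 from rfl, pow_one, hθ]
      set k : ZMod (Nat.card A) := Multiplicative.toAdd (e c) with hk
      have h3 : (2 : ℕ) • k = 0 := by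
        have h5 := congrArg (fun z => Multiplicative.toAdd (e z)) hc
        simp only [map_pow, map_one, toAdd_pow, toAdd_one] at h5
        exact h5
      have h5 : ((2 * k.val : ℕ) : ZMod (Nat.card A)) = 0 := by
        rw [Nat.cast_mul, ZMod.natCast_zmod_val, ← h3, nsmul_eq_mul]
      have h6 : Nat.card A ∣ 2 * k.val := (ZMod.natCast_eq_zero_iff _ _).1 h5
      have h7 : 2 ∣ k.val := by
        have : 4 ∣ 2 * k.val := h4'.trans h6
        omega
      have h8 : (ZMod.castHom hd (ZMod 2)) k = 0 := by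
        rw [ZMod.castHom_apply, ← ZMod.natCast_val]
        exact (ZMod.natCast_eq_zero_iff _ _).2 h7
      rw [h8, ofAdd_zero]
    · have h3 : s ∣ s.choose 2 := hs.dvd_choose_self (by norm_num) (lt_of_le_of_ne hs.two_le (Ne.symm h2))
      obtain ⟨m, hm⟩ := h3
      rw [hm, pow_mul, hc, one_pow, map_one]

theorem group_part [Finite Γ] {A F : Subgroup Γ} (hA : A.Normal) (hF : F.Normal) (hAF : A ≤ F)
    (hmax : ∀ B : Subgroup Γ, B.Normal → (∀ x ∈ B, ∀ y ∈ B, x * y = y * x) → A ≤ B → B = A)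
    (hcen : ∀ x ∈ F, ∀ y ∈ A, x * y = y * x) (hcomm : ∀ x ∈ F, ∀ y ∈ F, ⁅x, y⁆ ∈ A)
    (hexp : ∃ n : ℕ, Squarefree n ∧ ∀ x ∈ F, x ^ n ∈ A) (hcyc : IsCyclic A) {s : ℕ} (hs : s.Prime) :
    ∃ N : Subgroup Γ, N.Normal ∧ A ≤ N ∧ (∀ x : Γ, x ∈ N ↔ x ∈ F ∧ x ^ s ∈ A) ∧
      (∀ x ∈ N, (∀ y ∈ N, x * y = y * x) → x ∈ A) ∧ (∃ b : ℕ, Nat.card N = Nat.card A * s ^ (2 * b)) ∧
      ((s ≠ 2 ∨ 4 ∣ Nat.card A) → ∀ x ∈ N, ∃ c ∈ A, (x * c) ^ s = 1) := by
  have hs' : Fact s.Prime := ⟨hs⟩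
  -- bilinearity in `F`
  have hl : ∀ x ∈ F, ∀ y ∈ F, ∀ z ∈ F, ⁅x * y, z⁆ = ⁅x, z⁆ * ⁅y, z⁆ := by
    intro x hx y hy z hz
    have h1 : ⁅x * y, z⁆ = x * ⁅y, z⁆ * x⁻¹ * ⁅x, z⁆ := by simp only [commutatorElement_def]; group
    rw [h1, hcen x hx _ (hcomm y hy z hz), mul_inv_cancel_right,
      hcen _ (hAF (hcomm y hy z hz)) _ (hcomm x hx z hz)]
  have hlz : ∀ x ∈ F, ∀ z ∈ F, ∀ i : ℕ, ⁅x ^ i, z⁆ = ⁅x, z⁆ ^ i := by
    intro x hx z hz i
    let f : F →* Γ :=
      { toFun := fun k => ⁅(k : Γ), z⁆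
        map_one' := by simp
        map_mul' := fun a b => hl a a.2 b b.2 z hz }
    have := map_pow f ⟨x, hx⟩ i
    exact this
  -- the subgroup `N`
  have hmul : ∀ x ∈ F, ∀ y ∈ F, x ^ s ∈ A → y ^ s ∈ A → (x * y) ^ s ∈ A := by
    intro x hx y hy h1 h2
    rw [← QuotientGroup.eq_one_iff] at h1 h2 ⊢
    have h3 : Commute (x : Γ ⧸ A) (y : Γ ⧸ A) := by
      rw [← commutatorElement_eq_one_iff_commute]
      exact (QuotientGroup.eq_one_iff _).2 (hcomm x hx y hy)
    rw [QuotientGroup.mk_pow, QuotientGroup.mk_mul, h3.mul_pow, ← QuotientGroup.mk_pow, ← QuotientGroup.mk_pow,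
      h1, h2, one_mul]
  let N : Subgroup Γ :=
    { carrier := {x | x ∈ F ∧ x ^ s ∈ A}
      mul_mem' := fun {x y} hx hy => ⟨F.mul_mem hx.1 hy.1, hmul x hx.1 y hy.1 hx.2 hy.2⟩
      one_mem' := ⟨F.one_mem, by rw [one_pow]; exact A.one_mem⟩
      inv_mem' := fun {x} hx => ⟨F.inv_mem hx.1, by rw [inv_pow]; exact A.inv_mem hx.2⟩ }
  have hN : ∀ x : Γ, x ∈ N ↔ x ∈ F ∧ x ^ s ∈ A := fun _ => Iff.rfl
  have hNn : N.Normal := ⟨fun x hx g => (hN _).2 ⟨hF.conj_mem x hx.1 g, by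
    rw [conj_pow]; exact hA.conj_mem _ hx.2 g⟩⟩
  have hAN : A ≤ N := fun x hx => ⟨hAF hx, A.pow_mem hx s⟩
  have hNF : N ≤ F := fun x hx => hx.1
  -- the centre of `N`
  have hZ : ∀ x ∈ N, (∀ y ∈ N, x * y = y * x) → x ∈ A := by
    intro x hx hc
    have hxF : ∀ y ∈ F, x * y = y * x := by
      intro y hy
      obtain ⟨n, hn, hexp⟩ := hexp
      rw [← commutatorElement_eq_one_iff_mul_comm]
      have h1 : ⁅x, y⁆ ^ s = 1 := by
        rw [← hlz x hx.1 y hy]
        exact commutatorElement_eq_one_iff_mul_comm.2 (hcen y hy _ hx.2).symm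
      -- `m` prime to `s` with `y ^ m ∈ N`
      obtain ⟨m, hm, hym⟩ : ∃ m : ℕ, s.Coprime m ∧ y ^ m ∈ N := by
        by_cases hsn : s ∣ n
        · obtain ⟨m, rfl⟩ := hsn
          refine ⟨m, Nat.coprime_of_squarefree_mul hn, F.pow_mem hy m, ?_⟩
          rw [← pow_mul, mul_comm]
          exact hexp y hy
        · exact ⟨n, (Nat.Prime.coprime_iff_not_dvd hs).2 hsn, hAN (hexp y hy)⟩
      have h2 : ⁅x, y⁆ ^ m = 1 := by
        have h3 : ⁅y ^ m, x⁆ = 1 := commutatorElement_eq_one_iff_mul_comm.2 (hc _ hym).symm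
        rw [hlz y hy x hx.1] at h3
        rw [← commutatorElement_inv, inv_pow, h3, inv_one]
      have h3 := Nat.dvd_gcd (orderOf_dvd_of_pow_eq_one h1) (orderOf_dvd_of_pow_eq_one h2)
      rw [hm.gcd_eq_one, Nat.dvd_one, orderOf_eq_one_iff] at h3
      exact h3
    have hB : F ⊓ centralizer (F : Set Γ) = A := by
      refine hmax _ inferInstance ?_ ?_
      · intro a ha b hb
        exact (mem_centralizer_iff.1 ha.2 b hb.1).symm
      · intro a ha
        exact ⟨hAF ha, mem_centralizer_iff.2 fun b hb => hcen b hb a ha⟩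
    rw [← hB]
    exact ⟨hx.1, mem_centralizer_iff.2 fun b hb => (hxF b hb).symm⟩
  have hexpN : ∀ x ∈ N, ∀ y ∈ N, ⁅x, y⁆ ^ s = 1 := by
    intro x hx y hy
    rw [← hlz x hx.1 y hy.1]
    exact commutatorElement_eq_one_iff_mul_comm.2 (hcen y hy.1 _ hx.2).symm
  obtain ⟨b, hb⟩ := card_form hcyc hs _ N rfl hAN (fun a ha k hk => (hcen k hk.1 a ha).symm)
    (fun x hx y hy => hcomm x hx.1 y hy.1) (fun x hx => hx.2) hZ
  refine ⟨N, hNn, hAN, hN, hZ, ⟨b, hb⟩, fun h4 x hx => ?_⟩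
  by_cases hab : ∀ x ∈ N, ∀ y ∈ N, ⁅x, y⁆ = 1
  · have hxA : x ∈ A := hZ x hx fun y hy => commutatorElement_eq_one_iff_mul_comm.1 (hab x hx y hy)
    exact ⟨x⁻¹, A.inv_mem hxA, by rw [mul_inv_cancel, one_pow]⟩
  push Not at hab
  obtain ⟨x1, hx1, y1, hy1, hne⟩ := hab
  have hd : s ∣ Nat.card A := by
    have h1 : orderOf (⟨_, hcomm x1 hx1.1 y1 hy1.1⟩ : A) = s := by
      rw [← orderOf_coe]
      exact orderOf_eq_prime (hexpN x1 hx1 y1 hy1) hne
    rw [← h1]
    exact orderOf_dvd_natCard _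
  obtain ⟨θ, hθ, hθc⟩ := exists_theta hcyc hs hd
  let f : N →* Multiplicative (ZMod s) :=
    { toFun := fun x => θ ⟨(x : Γ) ^ s, x.2.2⟩
      map_one' := by
        have : (⟨((1 : N) : Γ) ^ s, (1 : N).2.2⟩ : A) = 1 := Subtype.ext (one_pow s)
        rw [this, map_one]
      map_mul' := fun x y => by
        have hc := hcomm y (hNF y.2) x (hNF x.2)
        have h1 : (⟨((x * y : N) : Γ) ^ s, (x * y).2.2⟩ : A) =
            ⟨(x : Γ) ^ s, x.2.2⟩ * ⟨(y : Γ) ^ s, y.2.2⟩ * (⟨_, hc⟩ : A) ^ s.choose 2 := by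
          apply Subtype.ext
          change ((x : Γ) * y) ^ s = (x : Γ) ^ s * (y : Γ) ^ s * ⁅(y : Γ), (x : Γ)⁆ ^ s.choose 2
          apply mul_pow_two
          · rw [commutatorElement_def]; group
          · exact (hcen x (hNF x.2) _ hc).symm
          · exact (hcen y (hNF y.2) _ hc).symm
        change θ _ = θ _ * θ _
        rw [h1, map_mul, map_mul, hθc h4 ⟨_, hc⟩ (Subtype.ext (hexpN (y : Γ) y.2 (x : Γ) x.2)), mul_one] }
  have hf : ∀ x : N, f x = 1 ↔ ∃ b ∈ A, (x : Γ) ^ s = b ^ s := by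
    intro x
    rw [show f x = θ ⟨(x : Γ) ^ s, x.2.2⟩ from rfl, hθ]
    constructor
    · rintro ⟨b, hb⟩
      exact ⟨b, b.2, congrArg Subtype.val hb⟩
    · rintro ⟨b, hb, h⟩
      exact ⟨⟨b, hb⟩, Subtype.ext h⟩
  by_cases hfull : ∀ x : N, f x = 1
  · obtain ⟨b, hb, h⟩ := (hf ⟨x, hx⟩).1 (hfull _)
    refine ⟨b⁻¹, A.inv_mem hb, ?_⟩
    have h1 : Commute x b⁻¹ := (hcen x hx.1 _ (A.inv_mem hb))
    have h2 : x ^ s = b ^ s := h
    rw [h1.mul_pow, h2, inv_pow, mul_inv_cancel]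
  exfalso
  push Not at hfull
  obtain ⟨x0, hx0⟩ := hfull
  -- the kernel
  let K : Subgroup Γ := f.ker.map N.subtype
  have hK : ∀ x : Γ, x ∈ K ↔ x ∈ N ∧ ∃ b ∈ A, x ^ s = b ^ s := by
    intro x
    constructor
    · rintro ⟨y, hy, rfl⟩
      exact ⟨y.2, (hf y).1 hy⟩
    · rintro ⟨h1, h2⟩
      exact ⟨⟨x, h1⟩, (hf ⟨x, h1⟩).2 h2, rfl⟩
  have hKn : K.Normal := ⟨fun x hx g => by
    obtain ⟨h1, b, hb, h2⟩ := (hK x).1 hx
    exact (hK _).2 ⟨hNn.conj_mem x h1 g, g * b * g⁻¹, hA.conj_mem b hb g, by rw [conj_pow, conj_pow, h2]⟩⟩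
  have hAK : A ≤ K := fun x hx => (hK x).2 ⟨hAN hx, x, hx, rfl⟩
  have hKN : K ≤ N := fun x hx => ((hK x).1 hx).1
  have hZK : ∀ x ∈ K, (∀ y ∈ K, x * y = y * x) → x ∈ A := by
    intro x hx hc
    have hB : K ⊓ centralizer (K : Set Γ) = A := by
      refine hmax _ inferInstance ?_ ?_
      · intro a ha b hb
        exact (mem_centralizer_iff.1 ha.2 b hb.1).symm
      · intro a ha
        exact ⟨hAK ha, mem_centralizer_iff.2 fun b hb => hcen b (hNF (hKN hb)) a ha⟩
    rw [← hB]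
    exact ⟨hx, mem_centralizer_iff.2 fun b hb => (hc b hb).symm⟩
  obtain ⟨c, hc⟩ := card_form hcyc hs _ K rfl hAK (fun a ha k hk => (hcen k (hNF (hKN hk)) a ha).symm)
    (fun x hx y hy => hcomm x (hNF (hKN hx)) y (hNF (hKN hy))) (fun x hx => (hKN hx).2) hZK
  have hcardK : Nat.card K = Nat.card f.ker :=
    (Nat.card_congr (f.ker.equivMapOfInjective N.subtype N.subtype_injective).toEquiv).symm
  have hcardN : Nat.card N = Nat.card K * s := by
    rw [hcardK, ← f.ker.card_mul_index, index_ker]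
    congr 1
    have h1 : Nat.card (Multiplicative (ZMod s)) = s := by rw [Nat.card_congr Multiplicative.toAdd, Nat.card_zmod]
    have h2 : Nat.card f.range ∣ s := by
      have := f.range.card_subgroup_dvd_card
      rwa [h1] at this
    rcases (Nat.dvd_prime hs).1 h2 with h3 | h3
    · exfalso
      have h4 : f.range = ⊥ := Subgroup.card_eq_one.1 h3
      exact hx0 ((mem_bot).1 (h4 ▸ (⟨x0, rfl⟩ : f x0 ∈ f.range)))
    · exact h3
  rw [hb, hc, mul_assoc, ← pow_succ] at hcardN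
  have h5 := Nat.eq_of_mul_eq_mul_left Nat.card_pos hcardN
  have h6 := Nat.pow_right_injective hs.two_le h5
  omega

end group

section main

variable {p : ℕ} [Fact p.Prime] {V : Type u} [AddCommGroup V] [Module (ZMod p) V] [Finite V]

/-- an abelian normal subgroup is cyclic and semiregular -/
theorem cyclic_semi [Nontrivial V] {G : Subgroup (V ≃ₗ[ZMod p] V)} (hq : QPr G) {A : Subgroup G} (hA : A.Normal)
    (hAc : ∀ x ∈ A, ∀ y ∈ A, x * y = y * x) :
    IsCyclic A ∧ ∀ z ∈ A, z ≠ 1 → ∀ v : V, z • v = v → v = 0 := by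
  have hfin : Finite (V ≃ₗ[ZMod p] V) := Finite.of_injective (fun f : V ≃ₗ[ZMod p] V => (f : V → V)) DFunLike.coe_injective
  -- faithful on invariant additive subgroups
  have key : ∀ W : AddSubgroup V, W ≠ ⊥ → (∀ x ∈ A, ∀ w ∈ W, x • w ∈ W) → ∀ x ∈ A, (∀ w ∈ W, x • w = w) → x = 1 := by
    intro W hW hinv x hx hfix
    refine hq A hA (AddSubgroup.toZModSubmodule p W) ?_ ?_ x hx ?_
    · intro h
      apply hW
      rw [eq_bot_iff]
      intro w hw
      have : w ∈ AddSubgroup.toZModSubmodule p W := hw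
      rw [h] at this
      exact this
    · intro x hx w hw
      exact hinv x hx w hw
    · intro w hw
      exact hfix w hw
  constructor
  · obtain ⟨W, hW, hinv, hmin⟩ := Cfsg.Agent.H662.GW.exists_min (V := V) A
    obtain ⟨g, hg, hgen⟩ := Cfsg.Agent.H662.GW.exists_gen A W hW hinv hmin (fun a ha b hb w _ => by
      rw [← mul_smul, hAc a ha b hb, mul_smul])
    refine ⟨⟨⟨g, hg⟩, ?_⟩⟩
    rintro ⟨m, hm⟩
    obtain ⟨k, hk⟩ := hgen m hm
    refine mem_zpowers_iff.2 ⟨k, Subtype.ext ?_⟩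
    have h1 : (g ^ k)⁻¹ * m = 1 := key W hW hinv _ (A.mul_mem (A.inv_mem (A.zpow_mem hg k)) hm) fun w hw => by
      rw [mul_smul, hk w hw, inv_smul_smul]
    exact inv_mul_eq_one.1 h1
  · intro z hz hz1 v hv
    by_contra hv0
    let W : AddSubgroup V :=
      { carrier := {w | z • w = w}
        zero_mem' := smul_zero z
        add_mem' := fun {a b} ha hb => by
          change z • (a + b) = a + b
          rw [smul_add, ha, hb]
        neg_mem' := fun {a} ha => by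
          change z • (-a) = -a
          rw [smul_neg, ha] }
    apply hz1
    refine key W (fun h => hv0 ?_) (fun x hx w hw => ?_) z hz fun w hw => hw
    · have : v ∈ W := hv
      rw [h] at this
      exact this
    · change z • x • w = x • w
      have hw' : z • w = w := hw
      rw [← mul_smul, hAc z hz x hx, mul_smul, hw']

/-- E2: the `s`-part of `F` -/
theorem sym_of_F [Nontrivial V] {G : Subgroup (V ≃ₗ[ZMod p] V)} (hq : QPr G) (hcop : ¬ p ∣ Nat.card G)
    {A F : Subgroup G} (hA : A.Normal) (hF : F.Normal) (hAF : A ≤ F) (hAc : ∀ x ∈ A, ∀ y ∈ A, x * y = y * x)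
    (hmax : ∀ B : Subgroup G, B.Normal → (∀ x ∈ B, ∀ y ∈ B, x * y = y * x) → A ≤ B → B = A)
    (hcen : ∀ x ∈ F, ∀ y ∈ A, x * y = y * x) (hcomm : ∀ x ∈ F, ∀ y ∈ F, ⁅x, y⁆ ∈ A)
    (hexp : ∃ n : ℕ, Squarefree n ∧ ∀ x ∈ F, x ^ n ∈ A) {s : ℕ} (hs : s.Prime) :
    ∃ N : Subgroup G, N.Normal ∧ A ≤ N ∧ (∀ x : G, x ∈ N ↔ x ∈ F ∧ x ^ s ∈ A) ∧
      (N = A ∨ ∃ a : ℕ, 1 ≤ a ∧ Sym s a N V ∧ (Subgroup.center N).map N.subtype = A ∧
        ((s ≠ 2 ∨ 4 ∣ Nat.card A) → Full s N)) := by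
  have hfin : Finite (V ≃ₗ[ZMod p] V) := Finite.of_injective (fun f : V ≃ₗ[ZMod p] V => (f : V → V)) DFunLike.coe_injective
  obtain ⟨hcyc, hsemi⟩ := cyclic_semi hq hA hAc
  obtain ⟨N, hNn, hAN, hN, hZ, ⟨b, hb⟩, hfull⟩ := group_part hA hF hAF hmax hcen hcomm hexp hcyc hs
  refine ⟨N, hNn, hAN, hN, ?_⟩
  have hcenN : ∀ x : N, x ∈ center N ↔ (x : G) ∈ A := by
    intro x
    rw [mem_center_iff]
    constructor
    · intro h
      exact hZ x x.2 fun y hy => (congrArg Subtype.val (h ⟨y, hy⟩)).symm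
    · intro h y
      exact Subtype.ext (hcen y ((hN _).1 y.2).1 _ h)
  have hmap : (center N).map N.subtype = A := by
    ext x
    constructor
    · rintro ⟨y, hy, rfl⟩
      exact (hcenN y).1 hy
    · intro hx
      exact ⟨⟨x, hAN hx⟩, (hcenN _).2 hx, rfl⟩
  have hcardZ : Nat.card (center N) = Nat.card A := by
    rw [Nat.card_congr ((center N).equivMapOfInjective N.subtype N.subtype_injective).toEquiv, hmap]
  rcases Nat.eq_zero_or_pos b with hb0 | hb0
  · left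
    rw [hb0, mul_zero, pow_zero, mul_one] at hb
    exact (Subgroup.eq_of_le_of_card_ge hAN hb.le).symm
  right
  refine ⟨b, hb0, ?_, hmap, ?_⟩
  · refine ⟨inferInstance, inferInstance, hs, hb0, inferInstance, ?_, ?_, ?_, ?_, ?_, ?_⟩
    · -- `s` does not divide `|V|`
      intro h
      obtain ⟨k, hk⟩ : ∃ k, Nat.card V = p ^ k := by
        have : Module.Finite (ZMod p) V := Module.Finite.of_finite
        exact ⟨_, by rw [Module.natCard_eq_pow_finrank (K := ZMod p) (V := V), Nat.card_zmod]⟩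
      rw [hk] at h
      have h1 : s = p := (Nat.prime_dvd_prime_iff_eq hs Fact.out).1 (hs.dvd_of_dvd_pow h)
      have h2 : s ∣ Nat.card N := by
        rw [hb]
        exact Dvd.dvd.mul_left (dvd_pow_self s (by omega)) _
      exact hcop (h1.symm.dvd.trans (h2.trans (Subgroup.card_subgroup_dvd_card N)))
    · let f : center N →* A :=
        { toFun := fun x => ⟨((x : N) : G), (hcenN _).1 x.2⟩
          map_one' := rfl
          map_mul' := fun _ _ => rfl }
      exact isCyclic_of_injective f fun x y h => Subtype.ext (Subtype.ext (congrArg (fun z : A => (z : G)) h))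
    · intro x hx hx1 v hv
      exact hsemi x ((hcenN x).1 hx) (fun h => hx1 (Subtype.ext h)) v hv
    · intro x y
      exact (hcenN _).2 (hcomm x ((hN _).1 x.2).1 y ((hN _).1 y.2).1)
    · intro x
      exact (hcenN _).2 ((hN _).1 x.2).2
    · rw [hcardZ, hb]
  · intro h4 x
    obtain ⟨c, hc, h⟩ := hfull h4 x x.2
    exact ⟨⟨c, hAN hc⟩, (hcenN _).2 hc, Subtype.ext h⟩

end main

end Cfsg.Agent.H298.HT
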