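import Cfsg.Agent.H681.IP.Row
import Cfsg.Agent.H40.HT.Low
import Cfsg.Agent.H597.Norm

/-!
# S4933: vacuous rows by a comparison of degrees (helper298)

* `index_dvd_out` : `|A : N|` divides `|Out N|` if `C_A(N) = 1`;
* `exists_irr_of_fam` : a lower bound for a degree (`|ι|` different conjugates of a linear character);
* `exists_between` : a character of a subgroup `Q` of degree `d` gives a character of `P` of degree between `d` and
  `|P : Q| d`;
* `vac` : a Sylow `p`-subgroup of `S` with a nonabelian quotient whose centre has index at most `c`, and with a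
  subgroup with an irreducible character of degree `d`, `|Out S| ≤ k`, `k² c < d²`: no two degrees.
* `row_of_vac` : the same as a row;
* `Row.congr`.
-/

set_option autoImplicit false

namespace Cfsg.Agent.H298.HT

open Cfsg Subgroup Cfsg.Agent.H316.HT Cfsg.Agent.H681.IP
open Cfsg.Agent.Characters Cfsg.Agent.Characters.Core Cfsg.Agent.Characters.Clifford Cfsg.Agent.H40.HT

universe u v w

/-! ### the outer automorphisms -/

/-- `|A : N|` divides `|Out S|` for `S ≃* N` -/
theorem index_dvd_out {A : Type u} [Group A] (N : Subgroup A) [hN : N.Normal] (hC : centralizer (N : Set A) = ⊥)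
    {S : Type v} [Group S] (e : N ≃* S) : N.index ∣ (MulAut.conj : S →* MulAut S).range.index := by
  let g : A →* MulAut S := (MulAut.congr e).toMonoidHom.comp (MulAut.conjNormal (H := N))
  have hg : ∀ (a : A) (t : S), g a t = e (MulAut.conjNormal a (e.symm t)) := fun _ _ => rfl
  have hcomap : (MulAut.conj : S →* MulAut S).range.comap g = N := by
    ext a
    rw [Subgroup.mem_comap]
    constructor
    · rintro ⟨s, hs⟩
      have h1 : ∀ x : N, ((MulAut.conjNormal a x : N) : A) = (e.symm s : N) * x * ((e.symm s : N) : A)⁻¹ := by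
        intro x
        have h2 := congrArg (fun φ : MulAut S => φ (e x)) hs
        simp only [hg, MulAut.conj_apply, MulEquiv.symm_apply_apply] at h2
        have h3 := congrArg (fun y : S => ((e.symm y : N) : A)) h2
        simp only [MulEquiv.symm_apply_apply, map_mul, map_inv] at h3
        rw [← h3]
        rfl
      have h4 : ((e.symm s : N) : A)⁻¹ * a ∈ centralizer (N : Set A) := by
        rw [mem_centralizer_iff]
        intro x hx
        have h5 := h1 ⟨x, hx⟩
        rw [MulAut.conjNormal_apply] at h5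
        simp only at h5
        have h6 : a * x = (e.symm s : N) * x * ((e.symm s : N) : A)⁻¹ * a := by
          rw [← h5]; group
        rw [mul_assoc, h6]
        group
      rw [hC, mem_bot, inv_mul_eq_one] at h4
      rw [← h4]
      exact (e.symm s).2
    · intro ha
      refine ⟨e ⟨a, ha⟩, ?_⟩
      ext t
      rw [hg, MulAut.conj_apply]
      have h1 : MulAut.conjNormal a (e.symm t) = ⟨a, ha⟩ * e.symm t * (⟨a, ha⟩ : N)⁻¹ := by
        apply Subtype.ext
        rw [MulAut.conjNormal_apply]
        rfl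
      rw [h1, map_mul, map_mul, map_inv, MulEquiv.apply_symm_apply]
  have h1 : N.index = (MulAut.conj : S →* MulAut S).range.relIndex g.range := by
    rw [← Subgroup.index_comap, hcomap]
  rw [h1]
  have hnorm : (MulAut.conj : S →* MulAut S).range.Normal := by
    constructor
    rintro _ ⟨t, rfl⟩ α
    refine ⟨α t, ?_⟩
    ext x : 1
    simp [MulAut.conj_apply]
  exact Subgroup.relIndex_dvd_index_of_normal _ _

/-! ### degrees -/

/-- **Clifford bound** for a family of conjugates -/
theorem exists_irr_of_fam {H : Type u} [Group H] [Finite H] (A : Subgroup H) [A.Normal]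
    (lam : A →* ℂˣ) {ι : Type v} [Finite ι] (x : ι → H)
    (hX : ∀ i j, i ≠ j → ∃ y : A, lam (MulAut.conjNormal (x i) y) ≠ lam (MulAut.conjNormal (x j) y)) :
    ∃ θ : IrrCharacter H, Nat.card ι ≤ charDegree (θ : H → ℂ) := by
  classical
  have := Fintype.ofFinite H
  have := Fintype.ofFinite A
  have := Fintype.ofFinite ι
  have hf : Finite (IrrCharacter H) := finite_irr
  have : Fintype (IrrCharacter H) := Fintype.ofFinite _
  have hf' : Finite (IrrCharacter A) := finite_irr
  have : Fintype (IrrCharacter A) := Fintype.ofFinite _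
  let L : A → ℂ := fun y => ((lam y : ℂˣ) : ℂ)
  have hL : IsIrrCharacter A L := Linear.isIrrCharacter_hom lam
  obtain ⟨m, hm⟩ := exists_nat_comb (Brauer.isCharacter_indFun A (isIrr_isCharacter hL))
  have hne : ∃ θ : IrrCharacter H, m θ ≠ 0 := by
    by_contra hc
    push Not at hc
    have h1 := congrFun hm 1
    simp only [hc, zero_smul, Finset.sum_const_zero, Pi.zero_apply] at h1
    rw [OddOrderCharacters.IndRes.indFun_apply_one] at h1
    have h2 : L 1 = 1 := by simp [L]
    rw [h2, mul_one] at h1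
    exact Subgroup.index_ne_zero_of_finite (H := A) (by exact_mod_cast h1)
  obtain ⟨θ, hθ⟩ := hne
  refine ⟨θ, ?_⟩
  have h0 : classInner (fun y : A => (θ : H → ℂ) y) L ≠ 0 := by
    have h1 := Cfsg.Agent.OddOrderCharacters.Clifford.classInner_indFun A L (θ : H → ℂ)
      (isIrr_isClassFunction θ.2)
    rw [hm, classInner_sum_nsmul_irr] at h1
    have h2 := classInner_conj_symm L (fun y : A => (θ : H → ℂ) y)
    rw [← h1, map_natCast] at h2
    rw [← h2]
    exact_mod_cast hθ
  have hconj : ∀ x : H, IsIrrCharacter A (L ∘ (MulAut.conjNormal x : MulAut A)) := fun x => isIrr_conjNormal hL x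
  let F : ι → IrrCharacter A := fun i => ⟨L ∘ (MulAut.conjNormal (x i) : MulAut A), hconj (x i)⟩
  have hinj : Function.Injective F := by
    intro i j hij
    by_contra hne
    obtain ⟨y, hy⟩ := hX i j hne
    apply hy
    exact Units.ext (congrFun (congrArg (fun χ : IrrCharacter A => (χ : A → ℂ)) hij) y)
  obtain ⟨c, hc⟩ := exists_nat_comb (isCharacter_restrict A (isIrr_isCharacter θ.2))
  have hcF : ∀ i : ι, 1 ≤ c (F i) := by
    intro i
    have h2 : classInner (fun y : A => (θ : H → ℂ) y) (F i : A → ℂ) = (c (F i) : ℂ) := by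
      rw [hc, classInner_sum_nsmul_irr]
    have h3 : classInner (fun y : A => (θ : H → ℂ) y) (F i : A → ℂ) ≠ 0 := by
      change classInner (fun y : A => (θ : H → ℂ) y) (L ∘ (MulAut.conjNormal (x i) : MulAut A)) ≠ 0
      rw [classInner_restrict_conjNormal (isIrr_isClassFunction θ.2)]
      exact h0
    rw [h2] at h3
    exact Nat.one_le_iff_ne_zero.2 (by exact_mod_cast h3)
  have hdeg : charDegree (θ : H → ℂ) = ∑ ψ : IrrCharacter A, c ψ * charDegree (ψ : A → ℂ) := by
    have h3 := congrFun hc 1
    rw [Finset.sum_apply] at h3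
    have h4 : ((charDegree (θ : H → ℂ) : ℕ) : ℂ) = ∑ ψ : IrrCharacter A, ((c ψ * charDegree (ψ : A → ℂ) : ℕ) : ℂ) := by
      rw [← cast_deg]
      refine h3.trans (Finset.sum_congr rfl fun ψ _ => ?_)
      rw [Pi.smul_apply, nsmul_eq_mul, cast_deg, Nat.cast_mul]
    exact_mod_cast h4
  rw [hdeg]
  have hFX : Nat.card ι = ∑ _i : ι, 1 := by simp
  rw [hFX, ← Finset.sum_image (f := fun _ : IrrCharacter A => 1) (s := Finset.univ) (g := F) fun _ _ _ _ h => hinj h]
  refine (Finset.sum_le_sum fun ψ hψ => ?_).trans (Finset.sum_le_sum_of_subset (Finset.subset_univ _))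
  obtain ⟨i, -, rfl⟩ := Finset.mem_image.1 hψ
  have h5 : charDegree (F i : A → ℂ) = 1 := by
    have h6 : (F i : A → ℂ) 1 = 1 := by
      change L (MulAut.conjNormal (x i) 1) = 1
      rw [map_one]
      simp [L]
    rw [cast_deg] at h6
    exact_mod_cast h6
  rw [h5, mul_one]
  exact hcF i

/-- a character of a subgroup and a character of the group over it -/
theorem exists_between {P : Type u} [Group P] [Finite P] (R : Subgroup P) (θ : IrrCharacter R) :
    ∃ χ : IrrCharacter P, charDegree (θ : R → ℂ) ≤ charDegree (χ : P → ℂ) ∧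
      charDegree (χ : P → ℂ) ≤ R.index * charDegree (θ : R → ℂ) := by
  classical
  have := Fintype.ofFinite P
  have := Fintype.ofFinite R
  have hf : Finite (IrrCharacter P) := finite_irr
  have : Fintype (IrrCharacter P) := Fintype.ofFinite _
  have hf' : Finite (IrrCharacter R) := finite_irr
  have : Fintype (IrrCharacter R) := Fintype.ofFinite _
  obtain ⟨m, hm⟩ := exists_nat_comb (Brauer.isCharacter_indFun R (isIrr_isCharacter θ.2))
  have hm1 : ∑ χ : IrrCharacter P, m χ * charDegree (χ : P → ℂ) = R.index * charDegree (θ : R → ℂ) := by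
    have h1 := congrFun hm 1
    rw [OddOrderCharacters.IndRes.indFun_apply_one, Finset.sum_apply, cast_deg] at h1
    have h2 : ((R.index * charDegree (θ : R → ℂ) : ℕ) : ℂ) =
        ∑ χ : IrrCharacter P, ((m χ * charDegree (χ : P → ℂ) : ℕ) : ℂ) := by
      rw [Nat.cast_mul]
      refine h1.trans (Finset.sum_congr rfl fun χ _ => ?_)
      rw [Pi.smul_apply, nsmul_eq_mul, cast_deg, Nat.cast_mul]
    exact_mod_cast h2.symm
  have hpos : 0 < charDegree (θ : R → ℂ) := Nat.pos_of_ne_zero fun h => isIrr_apply_one_ne_zero θ.2 (by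
    rw [cast_deg, h, Nat.cast_zero])
  have hne : ∃ χ : IrrCharacter P, m χ ≠ 0 := by
    by_contra hc
    push Not at hc
    simp only [hc, zero_mul, Finset.sum_const_zero] at hm1
    rcases mul_eq_zero.1 hm1.symm with h2 | h2
    · exact Subgroup.index_ne_zero_of_finite (H := R) h2
    · exact hpos.ne' h2
  obtain ⟨χ, hχ⟩ := hne
  refine ⟨χ, ?_, ?_⟩
  · have h0 : classInner (fun y : R => (χ : P → ℂ) y) (θ : R → ℂ) ≠ 0 := by
      have h1 := Cfsg.Agent.OddOrderCharacters.Clifford.classInner_indFun R (θ : R → ℂ) (χ : P → ℂ)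
        (isIrr_isClassFunction χ.2)
      rw [hm, classInner_sum_nsmul_irr] at h1
      have h2 := classInner_conj_symm (θ : R → ℂ) (fun y : R => (χ : P → ℂ) y)
      rw [← h1, map_natCast] at h2
      rw [← h2]
      exact_mod_cast hχ
    obtain ⟨c, hc⟩ := exists_nat_comb (isCharacter_restrict R (isIrr_isCharacter χ.2))
    have hcθ : 1 ≤ c θ := by
      rw [hc, classInner_sum_nsmul_irr] at h0
      exact Nat.one_le_iff_ne_zero.2 (by exact_mod_cast h0)
    have hdeg : charDegree (χ : P → ℂ) = ∑ ψ : IrrCharacter R, c ψ * charDegree (ψ : R → ℂ) := by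
      have h3 := congrFun hc 1
      rw [Finset.sum_apply] at h3
      have h4 : ((charDegree (χ : P → ℂ) : ℕ) : ℂ) =
          ∑ ψ : IrrCharacter R, ((c ψ * charDegree (ψ : R → ℂ) : ℕ) : ℂ) := by
        rw [← cast_deg]
        refine h3.trans (Finset.sum_congr rfl fun ψ _ => ?_)
        rw [Pi.smul_apply, nsmul_eq_mul, cast_deg, Nat.cast_mul]
      exact_mod_cast h4
    rw [hdeg]
    refine le_trans ?_ (Finset.single_le_sum (f := fun ψ : IrrCharacter R => c ψ * charDegree (ψ : R → ℂ))
      (fun _ _ => Nat.zero_le _) (Finset.mem_univ θ))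
    exact Nat.le_mul_of_pos_left _ hcθ
  · rw [← hm1]
    refine le_trans ?_ (Finset.single_le_sum (f := fun χ : IrrCharacter P => m χ * charDegree (χ : P → ℂ))
      (fun _ _ => Nat.zero_le _) (Finset.mem_univ χ))
    exact Nat.le_mul_of_pos_left _ (Nat.pos_of_ne_zero hχ)

/-- a nonabelian group has a nonlinear character of degree at most the square root of the index of the centre -/
theorem exists_small {T : Type u} [Group T] [Finite T] {x y : T} (hxy : x * y ≠ y * x) :
    ∃ ψ : IrrCharacter T, 1 < charDegree (ψ : T → ℂ) ∧ charDegree (ψ : T → ℂ) ^ 2 ≤ (center T).index := by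
  have h1 : ∃ ψ : IrrCharacter T, charDegree (ψ : T → ℂ) ≠ 1 := by
    by_contra hno
    push Not at hno
    exact hxy (H597.Degrees.comm_of_forall_one (fun χ hχ => hno ⟨χ, hχ⟩) x y)
  obtain ⟨ψ, hψ⟩ := h1
  refine ⟨ψ, ?_, H597.Norm.sq_degree_le_index_center ψ.2⟩
  have h0 : charDegree (ψ : T → ℂ) ≠ 0 := fun h => isIrr_apply_one_ne_zero ψ.2 (by
    rw [cast_deg, h, Nat.cast_zero])
  omega

/-! ### the vacuous case -/

/-- `P` contains a copy of the Sylow `p`-subgroup `U` of `S ≃* N` of index at most `|A : N|` -/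
theorem exists_hom_index {p : ℕ} [hp : Fact p.Prime] {A : Type u} [Group A] [Finite A] {N : Subgroup A} {S : Type v}
    [Group S] [Finite S] (e : N ≃* S) (P : Sylow p A) (U : Sylow p S) :
    ∃ i : (U : Subgroup S) →* (P : Subgroup A), Function.Injective i ∧ i.range.index ≤ N.index := by
  obtain ⟨i, hi⟩ := exists_hom P (N.subtype.comp (e.symm.toMonoidHom.comp (U : Subgroup S).subtype))
    (fun a b hab => Subtype.val_injective (e.symm.injective (Subtype.val_injective hab))) U.isPGroup'
  refine ⟨i, hi, ?_⟩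
  have h1 := i.range.card_mul_index
  have h2 : Nat.card i.range = Nat.card (U : Subgroup S) := (Nat.card_congr (MonoidHom.ofInjective hi).toEquiv).symm
  have h3 : Nat.card A = Nat.card S * N.index := by
    rw [← Nat.card_congr e.toEquiv, N.card_mul_index]
  have hN : N.index ≠ 0 := Subgroup.index_ne_zero_of_finite
  have hS : Nat.card S ≠ 0 := Nat.card_pos.ne'
  have h4 : Nat.card (P : Subgroup A) = Nat.card (U : Subgroup S) * p ^ N.index.factorization p := by
    rw [P.card_eq_multiplicity, U.card_eq_multiplicity, h3, Nat.factorization_mul hS hN, Finsupp.add_apply, pow_add]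
  rw [h2, h4] at h1
  have h5 := Nat.eq_of_mul_eq_mul_left (Nat.card_pos (α := (U : Subgroup S))) h1
  rw [h5]
  exact Nat.ordProj_le p hN

/-- **the vacuous case** -/
theorem vac {p a : ℕ} [hp : Fact p.Prime] {A : Type u} [Group A] [Finite A] {N : Subgroup A} {S : Type v}
    [Group S] [Finite S] (e : N ≃* S) (P : Sylow p A) (hcd : CD p a (P : Subgroup A)) {k : ℕ} (hk : N.index ≤ k)
    (U : Sylow p S) {T : Type w} [Group T] (f : (U : Subgroup S) →* T) (hf : Function.Surjective f) {x y : T}
    (hxy : x * y ≠ y * x) {c : ℕ} (hc : (center T).index ≤ c) {Q : Type*} [Group Q] (j : Q →* S)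
    (hj : Function.Injective j) (hQ : IsPGroup p Q) (θ : IrrCharacter Q)
    (hlt : k ^ 2 * c < charDegree (θ : Q → ℂ) ^ 2) : False := by
  have : Finite T := Finite.of_surjective f hf
  obtain ⟨ψ, h1, h2⟩ := exists_small hxy
  obtain ⟨i, hi, hidx⟩ := exists_hom_index e P U
  have hfin : Finite i.range := inferInstance
  let e' : (U : Subgroup S) ≃* i.range := MonoidHom.ofInjective hi
  let g : i.range →* T := f.comp e'.symm.toMonoidHom
  have hg : Function.Surjective g := hf.comp e'.symm.surjective
  obtain ⟨χ, h3, h4⟩ := exists_between i.range (⟨_, isIrr_comp g hg ψ.2⟩ : IrrCharacter i.range)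
  change charDegree ((ψ : T → ℂ) ∘ g) ≤ _ at h3
  change _ ≤ _ * charDegree ((ψ : T → ℂ) ∘ g) at h4
  rw [charDegree_comp] at h3 h4
  have h5 : charDegree (χ : ↥(P : Subgroup A) → ℂ) = p ^ a := (hcd.1 χ).resolve_left (by omega)
  rw [h5] at h4
  -- the lower bound
  obtain ⟨i', hi'⟩ := exists_hom P (N.subtype.comp (e.symm.toMonoidHom.comp j))
    (fun a b hab => hj (e.symm.injective (Subtype.val_injective hab))) hQ
  have h6 : charDegree (θ : Q → ℂ) ≤ p ^ a := (TD.of_CD hcd).le hp.out i' hi' θ
  have h7 : charDegree (θ : Q → ℂ) ≤ k * charDegree (ψ : T → ℂ) :=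
    (h6.trans h4).trans (Nat.mul_le_mul_right _ (hidx.trans hk))
  have h8 : charDegree (θ : Q → ℂ) ^ 2 ≤ k ^ 2 * c := by
    refine (Nat.pow_le_pow_left h7 2).trans ?_
    rw [mul_pow]
    exact Nat.mul_le_mul_left _ (h2.trans hc)
  omega

/-- **the vacuous row** -/
theorem row_of_vac {p : ℕ} [hp : Fact p.Prime] {S : Type v} [Group S] [Finite S] {k : ℕ}
    (hk : (MulAut.conj : S →* MulAut S).range.index ≤ k)
    (U : Sylow p S) {T : Type w} [Group T] (f : (U : Subgroup S) →* T) (hf : Function.Surjective f) {x y : T}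
    (hxy : x * y ≠ y * x) {c : ℕ} (hc : (center T).index ≤ c) {Q : Type*} [Group Q] (j : Q →* S)
    (hj : Function.Injective j) (hQ : IsPGroup p Q) (θ : IrrCharacter Q)
    (hlt : k ^ 2 * c < charDegree (θ : Q → ℂ) ^ 2) : Row p S := by
  intro A _ _ N _ ⟨e⟩ hC M _ P a _ hcd
  exfalso
  have : Finite (MulAut S) := inferInstance
  exact vac e P hcd ((Nat.le_of_dvd (Nat.pos_of_ne_zero Subgroup.index_ne_zero_of_finite)
    (index_dvd_out N hC e)).trans hk) U f hf hxy hc j hj hQ θ hlt

/-- the row of an isomorphic group -/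
theorem Row.congr {p : ℕ} {S : Type v} {S' : Type w} [Group S] [Group S'] (e : S ≃* S') (h : Row p S) : Row p S' :=
  fun A _ _ N _ ⟨e'⟩ => h A N ⟨e'.trans e.symm⟩

end Cfsg.Agent.H298.HT
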